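import Groth.Agent.FunFld.Weierstrass
import Groth.Agent.FunFld.Extra
import Mathlib

/-! Automorphisms of a Weierstrass curve fixing the origin. -/

set_option autoImplicit false
set_option maxSynthPendingDepth 3

namespace Groth.Agent.FunFldMisc

open Groth.Agent.FunFld _root_.FunFld WithZero Polynomial

variable {k K : Type*} [Field k] [Field K] [Algebra k K]

/-- `(1, y)` is free over polynomials in `x` when `x` has even and `y` odd pole order. -/
theorem pair_eq_zero (hK : IsFunctionField k K) (P : Place k K) {x y : K} (hx : P.ord x = -2)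
    (hy : P.ord y = -3) {p q : k[X]} (h : aeval x p + aeval x q * y = 0) : p = 0 ∧ q = 0 := by
  have hxt : Transcendental k x := mem_range_of_ord hK (P := P) (by omega)
  have hy0 : y ≠ 0 := fun e => by rw [e, ord_zero] at hy; omega
  have hx0 : x ≠ 0 := fun e => by rw [e, ord_zero] at hx; omega
  have hval : ∀ r : k[X], r ≠ 0 → P.ord (aeval x r) = -2 * (r.natDegree : ℤ) := by
    intro r hr
    refine ord_eq_of_val P (n := 2 * (r.natDegree : ℤ)) ?_ |>.trans (by ring)
    have hvx : P.1 x = exp 2 := by rw [val_eq_exp P hx0, hx]; rfl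
    rw [aeval_eq_sum_range, Finset.sum_range_succ]
    have h1 : P.1 (r.coeff r.natDegree • x ^ r.natDegree) = exp (2 * (r.natDegree : ℤ)) := by
      rw [val_smul P (show r.coeff r.natDegree ≠ 0 from leadingCoeff_ne_zero.2 hr), map_pow, hvx, ← exp_nsmul,
        nsmul_eq_mul, mul_comm]
    rw [Valuation.map_add_eq_of_lt_right, h1]
    rw [h1]
    refine Valuation.map_sum_lt _ exp_ne_zero fun i hi => (val_smul_le P _ _).trans_lt ?_
    rw [map_pow, hvx, ← exp_nsmul, nsmul_eq_mul, exp_lt_exp]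
    have : (i : ℤ) < r.natDegree := by exact_mod_cast Finset.mem_range.1 hi
    linarith
  by_cases hq : q = 0
  · subst hq
    simp only [map_zero, zero_mul, add_zero] at h
    exact ⟨transcendental_iff.1 hxt p h, rfl⟩
  exfalso
  have hq0 : aeval x q ≠ 0 := fun e => hq (transcendental_iff.1 hxt q e)
  by_cases hp : p = 0
  · subst hp
    simp only [map_zero, zero_add] at h
    exact mul_ne_zero hq0 hy0 h
  have h' : aeval x p = -(aeval x q * y) := eq_neg_of_add_eq_zero_left h
  have h1 := hval p hp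
  rw [h', show P.ord (-(aeval x q * y)) = P.ord (aeval x q * y) by simp [Place.ord], ord_mul P hq0 hy0, hy,
    hval q hq] at h1
  omega

/-- The plane equation of a Weierstrass cubic. -/
noncomputable def wEq (a b : k) : k[X][X] := X ^ 2 - C (X ^ 3 + C a * X + C b)

theorem wEq_monic (a b : k) : (wEq a b).Monic := monic_X_pow_sub_C _ two_ne_zero

theorem wEq_natDegree (a b : k) : (wEq a b).natDegree = 2 := natDegree_X_pow_sub_C

/-- The function field is the fraction field of the coordinate ring. -/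
theorem exists_gen_equiv (hK : IsFunctionField k K) (P : Place k K) {a b : k} {x y x' y' : K}
    (hx : P.ord x = -2) (hy : P.ord y = -3) (hx' : P.ord x' = -2) (hy' : P.ord y' = -3)
    (heq : y ^ 2 = x ^ 3 + algebraMap k K a * x + algebraMap k K b)
    (heq' : y' ^ 2 = x' ^ 3 + algebraMap k K a * x' + algebraMap k K b)
    (hxy : IntermediateField.adjoin k ({x, y} : Set K) = ⊤)
    (hxy' : IntermediateField.adjoin k ({x', y'} : Set K) = ⊤) :
    ∃ σ : K ≃ₐ[k] K, σ x = x' ∧ σ y = y' := by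
  classical
  let A := AdjoinRoot (wEq a b)
  have main : ∀ (u v : K) (hu : P.ord u = -2) (hv : P.ord v = -3)
      (he : v ^ 2 = u ^ 3 + algebraMap k K a * u + algebraMap k K b),
      ∃ φ : A →ₐ[k] K, Function.Injective φ ∧ φ (AdjoinRoot.of _ X) = u ∧ φ (AdjoinRoot.root _) = v := by
    intro u v hu hv he
    have h0 : eval₂ (aeval (R := k) u).toRingHom v (wEq a b) = 0 := by
      rw [wEq, eval₂_sub, eval₂_pow, eval₂_X, eval₂_C, he]
      simp
    let φ : A →ₐ[k] K :=
      { AdjoinRoot.lift (aeval (R := k) u).toRingHom v h0 with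
        commutes' := fun r => by
          show AdjoinRoot.lift _ v h0 (algebraMap k A r) = _
          rw [IsScalarTower.algebraMap_apply k k[X] A, AdjoinRoot.algebraMap_eq, AdjoinRoot.lift_of]
          simp }
    have hφu : φ (AdjoinRoot.of _ X) = u := by
      show AdjoinRoot.lift _ v h0 _ = _
      rw [AdjoinRoot.lift_of]; simp
    have hφv : φ (AdjoinRoot.root _) = v := by
      show AdjoinRoot.lift _ v h0 _ = _
      rw [AdjoinRoot.lift_root]
    refine ⟨φ, ?_, hφu, hφv⟩
    refine (injective_iff_map_eq_zero φ).2 fun z hz => ?_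
    obtain ⟨p, rfl⟩ := AdjoinRoot.mk_surjective z
    rw [AdjoinRoot.mk_eq_zero, ← modByMonic_eq_zero_iff_dvd (wEq_monic a b)]
    set r := p %ₘ wEq a b
    have hrd : r.natDegree < 2 := by
      rw [← wEq_natDegree a b]
      exact natDegree_modByMonic_lt p (wEq_monic a b) fun h => by
        have := wEq_natDegree a b; rw [h, natDegree_one] at this; omega
    have hpr : AdjoinRoot.mk (wEq a b) r = AdjoinRoot.mk (wEq a b) p := by
      rw [AdjoinRoot.mk_eq_mk]
      exact ⟨-(p /ₘ wEq a b), by linear_combination modByMonic_add_div p (wEq a b)⟩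
    have hr : aeval u (r.coeff 0) + aeval u (r.coeff 1) * v = 0 := by
      have hz' : φ (AdjoinRoot.mk _ r) = 0 := by rw [hpr]; exact hz
      change AdjoinRoot.lift _ v h0 _ = _ at hz'
      rw [AdjoinRoot.lift_mk, eval₂_eq_sum_range' _ hrd] at hz'
      simpa [Finset.sum_range_succ] using hz'
    obtain ⟨e0, e1⟩ := pair_eq_zero hK P hu hv hr
    ext1 i
    rcases i with _ | _ | i
    · rw [e0, coeff_zero]
    · rw [e1, coeff_zero]
    · rw [coeff_eq_zero_of_natDegree_lt (by omega), coeff_zero]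
  obtain ⟨φ, hφ, hφx, hφy⟩ := main x y hx hy heq
  obtain ⟨φ', hφ', hφx', hφy'⟩ := main x' y' hx' hy' heq'
  haveI : IsDomain A := hφ.isDomain φ.toRingHom
  let Φ : ∀ (ψ : A →ₐ[k] K), Function.Injective ψ → (FractionRing A →ₐ[k] K) := fun ψ hψ =>
    IsFractionRing.liftAlgHom (K := FractionRing A) hψ
  have hgen : ∀ (ψ : A →ₐ[k] K) (hψ : Function.Injective ψ),
      IntermediateField.adjoin k ({ψ (AdjoinRoot.of _ X), ψ (AdjoinRoot.root _)} : Set K) = ⊤ →
      Function.Bijective (Φ ψ hψ) := fun ψ hψ h => by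
    refine ⟨(Φ ψ hψ).toRingHom.injective, fun z => ?_⟩
    have hle : IntermediateField.adjoin k ({ψ (AdjoinRoot.of _ X), ψ (AdjoinRoot.root _)} : Set K) ≤
        (Φ ψ hψ).fieldRange := by
      rw [IntermediateField.adjoin_le_iff]
      rintro w (rfl | rfl)
      · exact ⟨algebraMap A (FractionRing A) (AdjoinRoot.of _ X), IsFractionRing.lift_algebraMap hψ _⟩
      · exact ⟨algebraMap A (FractionRing A) (AdjoinRoot.root _), IsFractionRing.lift_algebraMap hψ _⟩
    rw [h] at hle
    exact hle IntermediateField.mem_top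
  let E := AlgEquiv.ofBijective (Φ φ hφ) (hgen φ hφ (by rw [hφx, hφy]; exact hxy))
  let E' := AlgEquiv.ofBijective (Φ φ' hφ') (hgen φ' hφ' (by rw [hφx', hφy']; exact hxy'))
  have hE : ∀ z : A, (E.symm.trans E') (φ z) = φ' z := fun z => by
    have h1 : E (algebraMap A (FractionRing A) z) = φ z := IsFractionRing.lift_algebraMap hφ z
    rw [AlgEquiv.trans_apply, ← h1, AlgEquiv.symm_apply_apply]
    exact IsFractionRing.lift_algebraMap hφ' z
  exact ⟨E.symm.trans E', by rw [← hφx, hE, hφx'], by rw [← hφy, hE, hφy']⟩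

/-- An automorphism that keeps the origin scales the coordinates. -/
theorem exists_scale (hK : IsFunctionField k K) (hg : genus k K = 1) {P : Place k K} (hP : P.deg = 1)
    (h2 : (2 : k) ≠ 0) (h3 : (3 : k) ≠ 0) {a b : k} {x y : K}
    (heq : y ^ 2 = x ^ 3 + algebraMap k K a * x + algebraMap k K b)
    (hx : x ∈ L (Finsupp.single P 2)) (hx2 : P.ord x = -2)
    (hy : y ∈ L (Finsupp.single P 3)) (hy3 : P.ord y = -3)
    (σ : K ≃ₐ[k] K) (hσ : ∀ z : K, P.1 (σ z) = P.1 z) :
    ∃ u : k, u ≠ 0 ∧ a * u ^ 4 = a ∧ b * u ^ 6 = b ∧ σ x = algebraMap k K (u ^ 2) * x ∧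
      σ y = algebraMap k K (u ^ 3) * y := by
  classical
  have hord : ∀ z : K, P.ord (σ z) = P.ord z := fun z => by simp only [Place.ord, hσ]
  have hL : ∀ (n : ℕ) (z : K), z ∈ L (Finsupp.single P (n : ℤ)) → σ z ∈ L (Finsupp.single P (n : ℤ)) := by
    intro n z hz Q
    let Q' : Place k K := ⟨Q.1.comap σ.toRingEquiv.toRingHom,
      fun c => by
        show Q.1 (σ (algebraMap k K c)) ≤ 1
        rw [σ.commutes]; exact Q.2.1 c,
      fun r => by
        obtain ⟨w, hw⟩ := Q.2.2 r
        exact ⟨σ.symm w, by show Q.1 (σ (σ.symm w)) = r; rw [σ.apply_symm_apply, hw]⟩⟩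
    have hQ' : ∀ w, Q'.1 w = Q.1 (σ w) := fun _ => rfl
    rcases eq_or_ne Q P with rfl | hne
    · rw [hσ]; exact hz Q
    · have hne' : Q' ≠ P := fun e => hne (Subtype.ext (Valuation.ext fun w => by
        have := hQ' (σ.symm w)
        rw [e, σ.apply_symm_apply] at this
        rw [← this, ← hσ (σ.symm w), σ.apply_symm_apply]))
      have h := hz Q'
      rw [hQ', Finsupp.single_eq_of_ne hne'] at h
      rwa [Finsupp.single_eq_of_ne hne]
  have hspan2 := (basis_pole_two_three hK hP hg hx hx2 hy hy3 (n := 2) le_rfl).2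
  have hspan3 := (basis_pole_two_three hK hP hg hx hx2 hy hy3 (n := 3) (by omega)).2
  obtain ⟨α, β, hσx⟩ : ∃ α β : k, σ x = algebraMap k K α + algebraMap k K β * x := by
    have h : σ x ∈ L (Finsupp.single P ((2 : ℕ) : ℤ)) := hL 2 x hx
    rw [← hspan2, Submodule.mem_span_range_iff_exists_fun] at h
    obtain ⟨c, hc⟩ := h
    refine ⟨c (Sum.inl ⟨0, by norm_num⟩), c (Sum.inl ⟨1, by norm_num⟩), ?_⟩
    rw [← hc, Fintype.sum_sum_type]
    show (∑ i : Fin 2, c (Sum.inl i) • x ^ (i : ℕ)) + (∑ i : Fin 0, _) = _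
    simp [Fin.sum_univ_two, Algebra.smul_def]
  obtain ⟨γ, δ, ε, hσy⟩ : ∃ γ δ ε : k,
      σ y = algebraMap k K γ + algebraMap k K δ * x + algebraMap k K ε * y := by
    have h : σ y ∈ L (Finsupp.single P ((3 : ℕ) : ℤ)) := hL 3 y hy
    rw [← hspan3, Submodule.mem_span_range_iff_exists_fun] at h
    obtain ⟨c, hc⟩ := h
    refine ⟨c (Sum.inl ⟨0, by norm_num⟩), c (Sum.inl ⟨1, by norm_num⟩), c (Sum.inr ⟨0, by norm_num⟩), ?_⟩
    rw [← hc, Fintype.sum_sum_type]
    show (∑ i : Fin 2, c (Sum.inl i) • x ^ (i : ℕ)) + (∑ i : Fin 1, c (Sum.inr i) • (x ^ (i : ℕ) * y)) = _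
    simp [Fin.sum_univ_two, Algebra.smul_def]
  have hrel := congrArg σ heq
  simp only [map_pow, map_add, map_mul, AlgEquiv.commutes, hσx, hσy] at hrel
  have hpq : aeval x ((C γ + C δ * X) ^ 2 + C (ε ^ 2) * (X ^ 3 + C a * X + C b)
      - ((C α + C β * X) ^ 3 + C a * (C α + C β * X) + C b))
      + aeval x (C (2 * ε) * (C γ + C δ * X)) * y = 0 := by
    simp only [map_add, map_sub, map_mul, map_pow, aeval_C, aeval_X, map_ofNat]
    linear_combination hrel - algebraMap k K ε ^ 2 * heq
  obtain ⟨hp, hq⟩ := pair_eq_zero hK P hx2 hy3 hpq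
  have hε : ε ≠ 0 := fun e => by
    rw [e, map_zero, zero_mul, add_zero] at hσy
    have h := hord y
    rw [hy3] at h
    have hmem : σ y ∈ L (Finsupp.single P (2 : ℤ)) := by
      rw [hσy]
      refine add_mem ?_ ?_
      · intro Q
        refine (Q.2.1 γ).trans ?_
        rw [← exp_zero, exp_le_exp]
        rcases eq_or_ne Q P with rfl | hne
        · simp
        · simp [Finsupp.single_eq_of_ne hne]
      · rw [← Algebra.smul_def]; exact Submodule.smul_mem _ _ hx
    have hne0 : σ y ≠ 0 := fun e0 => by rw [e0, ord_zero] at h; omega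
    have := hmem P
    rw [le_exp_iff P hne0, Finsupp.single_eq_same] at this
    omega
  have h2e : (2 : k) * ε ≠ 0 := mul_ne_zero h2 hε
  rcases mul_eq_zero.1 hq with hq | hq
  · exact absurd (C_eq_zero.1 hq) h2e
  have hγ : γ = 0 := by simpa using congrArg (fun r : k[X] => r.coeff 0) hq
  have hδ : δ = 0 := by simpa using congrArg (fun r : k[X] => r.coeff 1) hq
  subst hγ hδ
  simp only [map_zero, zero_mul, add_zero, zero_add, zero_pow two_ne_zero] at hp hσy
  have hp' : C (ε ^ 2 - β ^ 3) * X ^ 3 + C (-(3 * α * β ^ 2)) * X ^ 2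
      + C (ε ^ 2 * a - 3 * α ^ 2 * β - a * β) * X + C (ε ^ 2 * b - α ^ 3 - a * α - b) = 0 := by
    rw [← hp]
    simp only [map_sub, map_neg, map_mul, map_pow, map_ofNat]
    ring
  have hc := fun i => congrArg (fun r : k[X] => r.coeff i) hp'
  simp only [coeff_add, coeff_C_mul, coeff_X_pow, coeff_X, coeff_C, coeff_zero] at hc
  have k3 : ε ^ 2 - β ^ 3 = 0 := by simpa using hc 3
  have k2 : 3 * α * β ^ 2 = 0 := by simpa using hc 2
  have k1 : ε ^ 2 * a - 3 * α ^ 2 * β - a * β = 0 := by simpa using hc 1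
  have k0 : ε ^ 2 * b - α ^ 3 - a * α - b = 0 := by simpa using hc 0
  have hβ : β ≠ 0 := fun e => hε (by
    rw [e] at k3
    exact pow_eq_zero_iff two_ne_zero |>.1 (by linear_combination k3))
  have hα : α = 0 := by
    rcases mul_eq_zero.1 k2 with h | h
    · exact (mul_eq_zero.1 h).resolve_left h3
    · exact absurd (pow_eq_zero_iff two_ne_zero |>.1 h) hβ
  subst hα
  rw [map_zero, zero_add] at hσx
  refine ⟨ε / β, div_ne_zero hε hβ, ?_, ?_, ?_, ?_⟩
  · field_simp
    have : a * β ^ 2 = a := mul_left_cancel₀ hβ (by linear_combination k1 - a * k3)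
    linear_combination (a * ε ^ 2 + a * β ^ 3) * k3 + β ^ 4 * this
  · field_simp
    linear_combination ε ^ 4 * k0 + b * (ε ^ 2 + β ^ 3) * k3
  · rw [hσx]; congr 2
    field_simp
    linear_combination -k3
  · rw [hσy]; congr 2
    field_simp
    linear_combination -k3

open Classical in
theorem card_roots_of_unity [IsAlgClosed k] (h2 : (2 : k) ≠ 0) (h3 : (3 : k) ≠ 0) (n : ℕ)
    (hn : n = 2 ∨ n = 4 ∨ n = 6) : Nat.card {u : k // u ^ n = 1} = n := by
  have hn0 : ((n : ℕ) : k) ≠ 0 := by
    rcases hn with rfl | rfl | rfl <;> push_cast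
    · exact h2
    · rw [show (4 : k) = 2 * 2 by norm_num]; exact mul_ne_zero h2 h2
    · rw [show (6 : k) = 2 * 3 by norm_num]; exact mul_ne_zero h2 h3
  have hpos : 0 < n := by omega
  haveI : NeZero (n : k) := ⟨hn0⟩
  obtain ⟨ζ, hζ⟩ := HasEnoughRootsOfUnity.exists_primitiveRoot k n
  have hnd : (nthRoots n (1 : k)).Nodup := hζ.nthRoots_one_nodup
  have h := hζ.card_nthRoots_one
  rw [← Multiset.toFinset_card_of_nodup hnd] at h
  refine Eq.trans ?_ h
  rw [← Nat.card_eq_finsetCard]
  exact Nat.card_congr (Equiv.subtypeEquivRight fun u => by rw [Multiset.mem_toFinset, mem_nthRoots hpos])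

end Groth.Agent.FunFldMisc
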