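import Groth.Agent.FunFld.Ext.Below
import Mathlib

/-! Places of a constant field extension of a function field over a finite field fixed by Frobenius. -/

set_option autoImplicit false
set_option maxSynthPendingDepth 3
set_option linter.style.haveILetI false

namespace Groth.Agent.FunFldMisc

open _root_.FunFld WithZero IsLocalRing Groth.Agent.FunFld

attribute [-instance] instModuleResidueFieldOfAlgebra

/-- A place of an algebraic extension lies over a place. -/
theorem exists_below_algebraic {k K K' : Type*} [Field k] [Field K] [Field K'] [Algebra k K] [Algebra K K'] [Algebra k K'] [IsScalarTower k K K'] [Algebra.IsAlgebraic K K'] (Q : Place k K') : ∃ P : Place k K, IsOver Q P := by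
  classical
  let G : AddSubgroup ℤ :=
    { carrier := Set.range fun x : Kˣ => Q.ord (algebraMap K K' (x : K))
      add_mem' := by
        rintro _ _ ⟨x, rfl⟩ ⟨y, rfl⟩
        exact ⟨x * y, by simp only [Units.val_mul, map_mul]; exact ord_mul Q ((map_ne_zero _).2 x.ne_zero) ((map_ne_zero _).2 y.ne_zero)⟩
      zero_mem' := ⟨1, by
        simp only [Units.val_one, map_one]
        rw [← map_one (algebraMap k K'), ord_algebraMap]⟩
      neg_mem' := by
        rintro _ ⟨x, rfl⟩
        exact ⟨x⁻¹, by simp only [Units.val_inv_eq_inv_val, map_inv₀]; exact ord_inv Q _⟩ }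
  obtain ⟨a, ha⟩ := Int.subgroup_cyclic G
  -- the valuation is not trivial on `K`
  have ha0 : a ≠ 0 := by
    rintro rfl
    obtain ⟨z, hz⟩ := exists_val Q 1
    have hint : IsIntegral K z := (Algebra.IsAlgebraic.isAlgebraic z).isIntegral
    have h0 : ∀ c : K, Q.1 (algebraMap K K' c) ≤ 1 := fun c => by
      rcases eq_or_ne c 0 with rfl | hc
      · simp
      refine (ord_nonneg_iff Q ((map_ne_zero _).2 hc)).1 (le_of_eq ?_)
      have : Q.ord (algebraMap K K' c) ∈ G := ⟨Units.mk0 c hc, rfl⟩
      rw [ha, AddSubgroup.mem_closure_singleton] at this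
      obtain ⟨n, hn⟩ := this
      simpa using hn
    have hlt : (1 : WithZero (Multiplicative ℤ)) < Q.1 z := by rw [hz, ← exp_zero, exp_lt_exp]; omega
    obtain ⟨p, hp, hpz⟩ := hint
    rw [← Polynomial.aeval_def, Polynomial.aeval_eq_sum_range, Finset.sum_range_succ,
      hp.coeff_natDegree, one_smul] at hpz
    set m := p.natDegree
    have hsum : Q.1 (∑ i ∈ Finset.range m, p.coeff i • z ^ i) < Q.1 (z ^ m) := by
      rw [map_pow]
      rcases Nat.eq_zero_or_pos m with hm | hm
      · simp [hm]
      refine lt_of_le_of_lt (b := Q.1 z ^ (m - 1)) (Valuation.map_sum_le _ fun i hi => ?_)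
        (pow_lt_pow_right₀ hlt (by omega))
      rw [Algebra.smul_def, map_mul, map_pow]
      exact (mul_le_mul' (h0 _) le_rfl).trans_eq (one_mul _) |>.trans
        (pow_le_pow_right₀ hlt.le (by have := Finset.mem_range.1 hi; omega))
    have := Valuation.map_add_eq_of_lt_right Q.1 hsum
    rw [hpz, map_zero] at this
    exact absurd this.symm ((pow_ne_zero _ ((ne_of_gt (lt_trans zero_lt_one hlt)))) ∘ fun e => by rwa [map_pow] at e)
  set e := a.natAbs with he
  have he0 : 0 < e := Int.natAbs_pos.2 ha0
  have hdiv : ∀ x : K, (e : ℤ) ∣ Q.ord (algebraMap K K' x) := fun x => by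
    rcases eq_or_ne x 0 with rfl | hx
    · simp [ord_zero]
    have : Q.ord (algebraMap K K' x) ∈ G := ⟨Units.mk0 x hx, rfl⟩
    rw [ha, AddSubgroup.mem_closure_singleton] at this
    obtain ⟨n, hn⟩ := this
    rw [← hn, he, Int.natAbs_dvd, smul_eq_mul]
    exact dvd_mul_left a n
  let v : K → WithZero (Multiplicative ℤ) := fun x =>
    if x = 0 then 0 else exp (-(Q.ord (algebraMap K K' x) / e))
  have hv : ∀ x, v x ^ e = Q.1 (algebraMap K K' x) := fun x => by
    rcases eq_or_ne x 0 with rfl | hx
    · simp [v, he0.ne']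
    rw [show v x = exp (-(Q.ord (algebraMap K K' x) / e)) from if_neg hx,
      val_eq_exp Q ((map_ne_zero _).2 hx), ← exp_nsmul, nsmul_eq_mul, mul_neg,
      Int.mul_ediv_cancel' (hdiv x)]
  have hinj : Function.Injective fun w : WithZero (Multiplicative ℤ) => w ^ e :=
    pow_left_injective_wz he0.ne'
  let V : Valuation K (WithZero (Multiplicative ℤ)) :=
    { toFun := v
      map_zero' := if_pos rfl
      map_one' := hinj (by simp only [hv, map_one, one_pow])
      map_mul' := fun x y => hinj (by simp only [hv, mul_pow, map_mul])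
      map_add_le_max' := fun x y => le_of_pow_le_pow_left₀ he0.ne' zero_le (by
        rw [hv, (pow_left_mono e).map_max, hv, hv, map_add]
        exact Q.1.map_add _ _) }
  have hVk : ∀ c : k, V (algebraMap k K c) ≤ 1 := fun c => (pow_le_one_iff he0.ne').1 (by
    show v _ ^ e ≤ 1
    rw [hv, ← IsScalarTower.algebraMap_apply]; exact Q.2.1 c)
  have hsurj : Function.Surjective V := by
    intro w
    rcases eq_or_ne w 0 with rfl | hw
    · exact ⟨0, map_zero V⟩
    have : -(log w) * e ∈ G := by
      rw [ha, AddSubgroup.mem_closure_singleton]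
      rcases Int.natAbs_eq a with h | h
      · exact ⟨-log w, by rw [smul_eq_mul]; conv_lhs => rw [h]⟩
      · refine ⟨log w, ?_⟩
        rw [smul_eq_mul]
        conv_lhs => rw [h]
        rw [he]; ring
    obtain ⟨x, hx⟩ := this
    refine ⟨x, hinj ?_⟩
    show v x ^ e = w ^ e
    simp only at hx
    rw [hv, val_eq_exp Q ((map_ne_zero _).2 x.ne_zero), hx]
    conv_rhs => rw [← exp_log hw, ← exp_nsmul, nsmul_eq_mul]
    congr 1; ring
  exact ⟨⟨V, hVk, hsurj⟩, e, fun x => (hv x).symm⟩

section
variable {k K kb Kb : Type*} [Field k] [Field K] [Algebra k K] [Field kb] [Algebra k kb]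
  [Field Kb] [Algebra K Kb] [Algebra kb Kb] (Q : Place kb Kb) (P : Place k K)

theorem val_lt_one_of_le_iff (hQP : ∀ x : K, Q.1 (algebraMap K Kb x) ≤ 1 ↔ P.1 x ≤ 1) (x : K) :
    Q.1 (algebraMap K Kb x) < 1 ↔ P.1 x < 1 := by
  rcases eq_or_ne x 0 with rfl | hx
  · simp
  have h := hQP x⁻¹
  rw [map_inv₀, map_inv₀, map_inv₀] at h
  have hP : 0 < P.1 x := zero_lt_iff.2 (by simpa using hx)
  have hQ : 0 < Q.1 (algebraMap K Kb x) := zero_lt_iff.2 (by simpa using hx)
  rw [inv_le_one₀ hQ, inv_le_one₀ hP] at h
  rw [← not_le, ← not_le, h]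

theorem val_eq_one_const {c : kb} (hc : c ≠ 0) : Q.1 (algebraMap kb Kb c) = 1 := val_algebraMap Q hc

theorem exists_residue_const [IsAlgClosed kb] (hK : IsFunctionField k K)
    (hc : ∀ c : k, algebraMap K Kb (algebraMap k K c) = algebraMap kb Kb (algebraMap k kb c))
    (hQP : ∀ x : K, Q.1 (algebraMap K Kb x) ≤ 1 ↔ P.1 x ≤ 1) {x : K} (hx : P.1 x ≤ 1) :
    ∃ c : kb, Q.1 (algebraMap K Kb x - algebraMap kb Kb c) < 1 := by
  haveI hfin : @Module.Finite k (ResidueField P.O) _ _ Algebra.toModule := residue_finite hK P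
  let r : ResidueField P.O := residue P.O ⟨x, hx⟩
  have hr : IsIntegral k r := IsIntegral.of_finite k r
  set p := minpoly k r
  have h0 : residue P.O (Polynomial.aeval (⟨x, hx⟩ : P.O) p) = 0 := by
    rw [Polynomial.aeval_def, Polynomial.hom_eval₂]
    exact minpoly.aeval k r
  rw [residue_eq_zero_iff, mem_maximalIdeal, mem_nonunits_iff] at h0
  have h1 : P.1 (Polynomial.aeval x p) < 1 := by
    have h2 := Valuation.Integer.not_isUnit_iff_valuation_lt_one.1 h0
    have h3 : ((Polynomial.aeval (⟨x, hx⟩ : P.O) p : P.O) : K) = Polynomial.aeval x p := by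
      rw [Polynomial.aeval_def, Polynomial.aeval_def]
      exact (Polynomial.hom_eval₂ p (algebraMap k P.O) P.O.subtype ⟨x, hx⟩)
    rw [← h3]
    exact h2
  rw [← val_lt_one_of_le_iff Q P hQP] at h1
  have hm : (p.map (algebraMap k kb)).Monic := (minpoly.monic hr).map _
  have h4 : algebraMap K Kb (Polynomial.aeval x p) =
      Polynomial.eval₂ (algebraMap kb Kb) (algebraMap K Kb x) (p.map (algebraMap k kb)) := by
    rw [Polynomial.eval₂_map, Polynomial.aeval_def, Polynomial.hom_eval₂]
    congr 1
    ext c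
    exact hc c
  rw [h4, (IsAlgClosed.splits (p.map (algebraMap k kb))).eq_prod_roots_of_monic hm] at h1
  generalize (p.map (algebraMap k kb)).roots = R at h1
  induction R using Multiset.induction_on with
  | empty => simp at h1
  | cons c R ih =>
    rw [Multiset.map_cons, Multiset.prod_cons, Polynomial.eval₂_mul, Polynomial.eval₂_sub, Polynomial.eval₂_X,
      Polynomial.eval₂_C, map_mul] at h1
    by_cases hcl : Q.1 (algebraMap K Kb x - algebraMap kb Kb c) < 1
    · exact ⟨c, hcl⟩
    · refine ih (lt_of_le_of_lt ?_ h1)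
      exact le_mul_of_one_le_left' (not_lt.1 hcl)

theorem val_sum_eq_one {ι : Type*} (b : Module.Basis ι k kb)
    (hc : ∀ c : k, algebraMap K Kb (algebraMap k K c) = algebraMap kb Kb (algebraMap k kb c))
    (hQP : ∀ x : K, Q.1 (algebraMap K Kb x) ≤ 1 ↔ P.1 x ≤ 1) (s : Finset ι) (y : ι → K) (a : ι → k)
    (hya : ∀ i ∈ s, P.1 (y i - algebraMap k K (a i)) < 1) {j : ι} (hj : j ∈ s) (haj : a j ≠ 0) :
    Q.1 (∑ i ∈ s, algebraMap kb Kb (b i) * algebraMap K Kb (y i)) = 1 := by
  have e : ∑ i ∈ s, algebraMap kb Kb (b i) * algebraMap K Kb (y i) =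
      (∑ i ∈ s, algebraMap kb Kb (b i) * algebraMap K Kb (y i - algebraMap k K (a i))) +
        algebraMap kb Kb (∑ i ∈ s, a i • b i) := by
    rw [map_sum, ← Finset.sum_add_distrib]
    refine Finset.sum_congr rfl fun i _ => ?_
    rw [map_sub, hc, Algebra.smul_def, map_mul]
    ring
  have h1 : Q.1 (algebraMap kb Kb (∑ i ∈ s, a i • b i)) = 1 := by
    refine val_eq_one_const Q fun h => haj ?_
    exact linearIndependent_iff'.1 b.linearIndependent s a h j hj
  rw [e, Valuation.map_add_eq_of_lt_right, h1]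
  rw [h1]
  refine Valuation.map_sum_lt _ one_ne_zero fun i hi => ?_
  rw [map_mul]
  exact (mul_le_of_le_one_left' (Q.2.1 _)).trans_lt ((val_lt_one_of_le_iff Q P hQP _).2 (hya i hi))

end

theorem frob_fixed_iff (k K kb Kb : Type*) [Field k] [Finite k] [Field K] [Algebra k K] [Field kb] [Algebra k kb]
    [IsAlgClosure k kb] [Field Kb] [Algebra K Kb] [Algebra kb Kb]
    (hK : IsFunctionField k K)
    (hc : ∀ c : k, algebraMap K Kb (algebraMap k K c) = algebraMap kb Kb (algebraMap k kb c))
    (hgen : Algebra.adjoin K (Set.range (algebraMap kb Kb)) = ⊤)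
    (F : Kb →+* Kb) (hF1 : ∀ c : kb, F (algebraMap kb Kb c) = algebraMap kb Kb c)
    (hF2 : ∀ x : K, F (algebraMap K Kb x) = algebraMap K Kb x ^ Nat.card k)
    (Q : Place kb Kb) :
    (∀ z : Kb, Q.1 (F z) < 1 ↔ Q.1 z < 1) ↔
      ∃ P : Place k K, (∀ x : K, Q.1 (algebraMap K Kb x) ≤ 1 ↔ P.1 x ≤ 1) ∧ P.deg = 1 := by
  classical
  haveI : IsAlgClosed kb := IsAlgClosure.isAlgClosed k
  set q := Nat.card k with hq
  have hq0 : 1 < q := Finite.one_lt_card
  constructor
  · intro hfix
    letI : Algebra k Kb := ((algebraMap K Kb).comp (algebraMap k K)).toAlgebra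
    haveI : IsScalarTower k K Kb := IsScalarTower.of_algebraMap_eq fun _ => rfl
    haveI : Algebra.IsAlgebraic K Kb := by
      have hle : Algebra.adjoin K (Set.range (algebraMap kb Kb)) ≤ integralClosure K Kb := by
        refine Algebra.adjoin_le ?_
        rintro _ ⟨c, rfl⟩
        obtain ⟨p, hp, hpc⟩ := (Algebra.IsAlgebraic.isAlgebraic (R := k) c).isIntegral
        refine ⟨p.map (algebraMap k K), hp.map _, ?_⟩
        rw [Polynomial.eval₂_map, show (algebraMap K Kb).comp (algebraMap k K) = (algebraMap kb Kb).comp (algebraMap k kb)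
          from RingHom.ext hc, ← Polynomial.hom_eval₂, hpc, map_zero]
      rw [hgen] at hle
      exact ⟨fun z => (hle (Algebra.mem_top : z ∈ (⊤ : Subalgebra K Kb))).isAlgebraic⟩
    let Q₀ : Place k Kb := ⟨Q.1, fun c => by
      show Q.1 (algebraMap K Kb (algebraMap k K c)) ≤ 1
      rw [hc]; exact Q.2.1 _, Q.2.2⟩
    obtain ⟨P, e, he⟩ := exists_below_algebraic (K := K) Q₀
    have he0 : 0 < e := IsOverWith.pos he
    have hQP : ∀ x : K, Q.1 (algebraMap K Kb x) ≤ 1 ↔ P.1 x ≤ 1 := fun x => by
      rw [show Q.1 (algebraMap K Kb x) = P.1 x ^ e from he x]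
      exact pow_le_one_iff he0.ne'
    refine ⟨P, hQP, ?_⟩
    have hres : ∀ x : K, P.1 x ≤ 1 → ∃ a : k, P.1 (x - algebraMap k K a) < 1 := by
      intro x hx
      obtain ⟨c, hxc⟩ := exists_residue_const Q P hK hc hQP hx
      have h1 : Q.1 (algebraMap K Kb x ^ q - algebraMap kb Kb c) < 1 := by
        have h := (hfix _).2 hxc
        rwa [map_sub, hF1, hF2] at h
      have h2 : Q.1 (algebraMap K Kb x ^ q - algebraMap kb Kb c ^ q) < 1 := by
        rw [← geom_sum₂_mul, map_mul]
        refine (mul_le_of_le_one_left' ?_).trans_lt hxc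
        refine Valuation.map_sum_le _ fun i _ => ?_
        rw [map_mul, map_pow, map_pow]
        exact mul_le_one' (pow_le_one' ((hQP x).2 hx) _) (pow_le_one' (Q.2.1 c) _)
      have h3 : c ^ q = c := by
        by_contra hne
        have h4 : Q.1 (algebraMap kb Kb (c ^ q - c)) = 1 := val_eq_one_const Q (sub_ne_zero.2 hne)
        rw [map_sub, map_pow, show algebraMap kb Kb c ^ q - algebraMap kb Kb c =
          (algebraMap K Kb x ^ q - algebraMap kb Kb c) - (algebraMap K Kb x ^ q - algebraMap kb Kb c ^ q) by ring] at h4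
        exact (lt_of_le_of_lt (Valuation.map_sub _ _ _) (max_lt h1 h2)).ne h4
      have h5 : c ∈ Set.range (algebraMap k kb) := by
        haveI := Fintype.ofFinite k
        have hne : (Polynomial.X ^ q - Polynomial.X : Polynomial kb) ≠ 0 :=
          FiniteField.X_pow_card_sub_X_ne_zero _ hq0
        by_contra hnot
        have hsub : (insert c (Finset.univ.image (algebraMap k kb)) : Finset kb).card ≤
            (Polynomial.X ^ q - Polynomial.X : Polynomial kb).natDegree := by
          refine Polynomial.card_le_degree_of_subset_roots ?_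
          intro t ht
          rw [Polynomial.mem_roots hne, Polynomial.IsRoot.def]
          rcases Finset.mem_insert.1 ht with rfl | ht
          · simp [h3]
          · obtain ⟨u, -, rfl⟩ := Finset.mem_image.1 ht
            simp [hq, Nat.card_eq_fintype_card, ← map_pow, FiniteField.pow_card]
        rw [Finset.card_insert_of_notMem (by simpa using hnot),
          Finset.card_image_of_injective _ (algebraMap k kb).injective, Finset.card_univ,
          FiniteField.X_pow_card_sub_X_natDegree_eq _ hq0, hq, Nat.card_eq_fintype_card] at hsub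
        omega
      obtain ⟨a, rfl⟩ := h5
      refine ⟨a, (val_lt_one_of_le_iff Q P hQP _).1 ?_⟩
      rwa [map_sub, hc]
    have hsurj : Function.Surjective (algebraMap k (ResidueField P.O)) := by
      intro r
      obtain ⟨x, rfl⟩ := residue_surjective r
      obtain ⟨a, ha⟩ := hres x x.2
      refine ⟨a, ?_⟩
      show residue P.O (algebraMap k P.O a) = residue P.O x
      rw [eq_comm, ← sub_eq_zero, ← map_sub, residue_eq_zero_iff, mem_maximalIdeal, mem_nonunits_iff]
      exact Valuation.Integer.not_isUnit_iff_valuation_lt_one.2 ha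
    refine finrank_eq_one (1 : ResidueField P.O) one_ne_zero fun w => ?_
    obtain ⟨a, rfl⟩ := hsurj w
    exact ⟨a, (Algebra.algebraMap_eq_smul_one a).symm⟩
  · rintro ⟨P, hQP, hdeg⟩ z
    have hres : ∀ x : K, P.1 x ≤ 1 → ∃ a : k, P.1 (x - algebraMap k K a) < 1 := by
      intro x hx
      haveI hfin : @Module.Finite k (ResidueField P.O) _ _ Algebra.toModule := residue_finite hK P
      have hbt : (⊥ : Subalgebra k (ResidueField P.O)) = ⊤ := Subalgebra.bot_eq_top_of_finrank_eq_one hdeg
      obtain ⟨a, ha⟩ := Algebra.mem_bot.1 (show residue P.O ⟨x, hx⟩ ∈ (⊥ : Subalgebra k (ResidueField P.O)) from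
        hbt ▸ Algebra.mem_top)
      refine ⟨a, ?_⟩
      replace ha : residue P.O (algebraMap k P.O a) = residue P.O ⟨x, hx⟩ := ha
      rw [eq_comm, ← sub_eq_zero, ← map_sub, residue_eq_zero_iff, mem_maximalIdeal, mem_nonunits_iff] at ha
      exact Valuation.Integer.not_isUnit_iff_valuation_lt_one.1 ha
    let b := Module.Free.chooseBasis k kb
    have hz : z ∈ Submodule.span K (Set.range fun i => algebraMap kb Kb (b i)) := by
      have h : z ∈ Subalgebra.toSubmodule (Algebra.adjoin K (Set.range (algebraMap kb Kb))) := by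
        rw [hgen]; trivial
      rw [Algebra.adjoin_eq_span] at h
      refine Submodule.span_le.2 ?_ h
      intro t ht
      have ht' : t ∈ MonoidHom.mrange (algebraMap kb Kb).toMonoidHom := by
        refine Submonoid.closure_le.2 ?_ ht
        rintro _ ⟨c, rfl⟩; exact ⟨c, rfl⟩
      obtain ⟨c, rfl⟩ := ht'
      show algebraMap kb Kb c ∈ _
      rw [← b.linearCombination_repr c, Finsupp.linearCombination_apply, Finsupp.sum, map_sum]
      refine Submodule.sum_mem _ fun i _ => ?_
      rw [Algebra.smul_def, map_mul, ← hc, ← Algebra.smul_def]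
      exact Submodule.smul_mem _ _ (Submodule.subset_span ⟨i, rfl⟩)
    obtain ⟨l, rfl⟩ := Finsupp.mem_span_range_iff_exists_finsupp.1 hz
    rcases l.support.eq_empty_or_nonempty with h0 | hne
    · simp [Finsupp.sum, h0]
    obtain ⟨j, hj, hmax⟩ := l.support.exists_max_image (fun i => P.1 (l i)) hne
    have hlj : l j ≠ 0 := Finsupp.mem_support_iff.1 hj
    have hy : ∀ i, i ∈ l.support → P.1 (l i / l j) ≤ 1 := fun i hi => by
      rw [map_div₀]
      exact div_le_one_of_le₀ (hmax i hi) zero_le
    let a : _ → k := fun i => if h : i ∈ l.support then (hres _ (hy i h)).choose else 0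
    have hya : ∀ i ∈ l.support, P.1 (l i / l j - algebraMap k K (a i)) < 1 := fun i hi => by
      simp only [a, dif_pos hi]
      exact (hres _ (hy i hi)).choose_spec
    have haj : a j ≠ 0 := fun h => by
      have := hya j hj
      rw [h, map_zero, sub_zero, div_self hlj, map_one] at this
      exact lt_irrefl _ this
    have hya' : ∀ i ∈ l.support, P.1 ((l i / l j) ^ q - algebraMap k K (a i)) < 1 := fun i hi => by
      haveI := Fintype.ofFinite k
      have e : algebraMap k K (a i) = algebraMap k K (a i) ^ q := by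
        rw [← map_pow, hq, Nat.card_eq_fintype_card, FiniteField.pow_card]
      rw [e, ← geom_sum₂_mul, map_mul]
      refine (mul_le_of_le_one_left' ?_).trans_lt (hya i hi)
      refine Valuation.map_sum_le _ fun n _ => ?_
      rw [map_mul, map_pow, map_pow]
      exact mul_le_one' (pow_le_one' (hy i hi) _) (pow_le_one' (P.2.1 _) _)
    have e1 : (l.sum fun i c => c • algebraMap kb Kb (b i)) =
        algebraMap K Kb (l j) * ∑ i ∈ l.support, algebraMap kb Kb (b i) * algebraMap K Kb (l i / l j) := by
      rw [Finsupp.sum, Finset.mul_sum]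
      refine Finset.sum_congr rfl fun i _ => ?_
      rw [Algebra.smul_def, mul_left_comm, ← map_mul, mul_div_cancel₀ _ hlj, mul_comm]
    have e2 : F (l.sum fun i c => c • algebraMap kb Kb (b i)) = algebraMap K Kb (l j) ^ q *
        ∑ i ∈ l.support, algebraMap kb Kb (b i) * algebraMap K Kb ((l i / l j) ^ q) := by
      rw [e1, map_mul, hF2, map_sum]
      congr 1
      refine Finset.sum_congr rfl fun i _ => ?_
      rw [map_mul, hF1, hF2, map_pow]
    rw [e2, e1, map_mul, map_mul, val_sum_eq_one Q P b hc hQP _ _ a hya' hj haj,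
      val_sum_eq_one Q P b hc hQP _ _ a hya hj haj, mul_one, mul_one, map_pow]
    exact pow_lt_one_iff (by omega)

end Groth.Agent.FunFldMisc
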