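import Groth.Agent.FunFld.Geometric
import Mathlib

/-! Geometric function fields are those of absolutely irreducible plane equations. -/

set_option autoImplicit false
set_option maxSynthPendingDepth 3

universe u v

namespace Groth.Agent.FunFldMisc

open _root_.FunFld MvPolynomial
open scoped TensorProduct

/-- The kernel of evaluation at a generic point of a curve in the plane is principal. -/
theorem exists_ker_eq_span {k : Type u} {K : Type v} [Field k] [Field K] [Algebra k K] (a : Fin 2 → K)
    (h0 : Transcendental k (a 0)) (h1 : ∃ p : MvPolynomial (Fin 2) k, p ≠ 0 ∧ aeval a p = 0) :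
    ∃ f : MvPolynomial (Fin 2) k, Irreducible f ∧
      RingHom.ker (aeval a : MvPolynomial (Fin 2) k →ₐ[k] K) = Ideal.span {f} := by
  set P := RingHom.ker (aeval a : MvPolynomial (Fin 2) k →ₐ[k] K) with hP
  haveI hPp : P.IsPrime := RingHom.ker_isPrime _
  have hne : P ≠ ⊥ := by
    obtain ⟨p, hp, hp'⟩ := h1
    exact fun e => hp (by rw [← Ideal.mem_bot, ← e]; exact hp')
  obtain ⟨f, hfP, hf⟩ := hPp.exists_mem_prime_of_ne_bot hne
  refine ⟨f, hf.irreducible, le_antisymm ?_ (by rwa [Ideal.span_singleton_le_iff_mem])⟩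
  by_contra hlt
  haveI : (Ideal.span {f}).IsPrime := (Ideal.span_singleton_prime hf.ne_zero).2 hf
  have hlt' : Ideal.span {f} < P := lt_of_le_not_ge (by rwa [Ideal.span_singleton_le_iff_mem]) hlt
  have hdim : ringKrullDim (MvPolynomial (Fin 2) k) = 2 := by
    rw [MvPolynomial.ringKrullDim_of_isNoetherianRing, ringKrullDim_eq_zero_of_field, zero_add, Nat.card_fin]
    norm_num
  have hmax : P.IsMaximal := by
    obtain ⟨M, hM, hPM⟩ := Ideal.exists_le_maximal P hPp.ne_top
    rcases hPM.eq_or_lt with rfl | hPM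
    · exact hM
    exfalso
    let l : LTSeries (PrimeSpectrum (MvPolynomial (Fin 2) k)) :=
      (((RelSeries.singleton _ (⟨⊥, Ideal.isPrime_bot⟩ : PrimeSpectrum _)).snoc ⟨_, ‹(Ideal.span {f}).IsPrime›⟩
        (by
          show (⊥ : Ideal (MvPolynomial (Fin 2) k)) < Ideal.span {f}
          rw [bot_lt_iff_ne_bot, Ne, Ideal.span_singleton_eq_bot]
          exact hf.ne_zero)).snoc ⟨P, hPp⟩ (by rw [RelSeries.last_snoc]; exact hlt')).snoc ⟨M, hM.isPrime⟩ (by rw [RelSeries.last_snoc]; exact hPM)
    have h := Order.LTSeries.length_le_krullDim l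
    change _ ≤ ringKrullDim (MvPolynomial (Fin 2) k) at h
    rw [hdim] at h
    have hl : l.length = 3 := by simp [l]
    rw [hl] at h
    exact absurd (show (3 : ℕ) ≤ 2 by exact_mod_cast h) (by norm_num)
  letI := Ideal.Quotient.field P
  haveI : Module.Finite k (MvPolynomial (Fin 2) k ⧸ P) :=
    finite_of_finite_type_of_isJacobsonRing k (MvPolynomial (Fin 2) k ⧸ P)
  let φ : MvPolynomial (Fin 2) k ⧸ P →ₐ[k] K := Ideal.Quotient.liftₐ P (aeval a) fun p hp => hp
  refine h0 ?_
  have := (Algebra.IsAlgebraic.isAlgebraic (R := k) (Ideal.Quotient.mk P (X 0))).algHom φ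
  simpa [φ] using this

/-- Evaluation at base-changed points. -/
theorem aeval_baseChange {k : Type u} {K : Type v} [Field k] [Field K] [Algebra k K] (a : Fin 2 → K)
    (k' : Type u) [Field k'] [Algebra k k'] (p : MvPolynomial (Fin 2) k) :
    (aeval (fun i => (1 : k') ⊗ₜ[k] a i) : MvPolynomial (Fin 2) k' →ₐ[k'] k' ⊗[k] K)
      (MvPolynomial.map (algebraMap k k') p) = (1 : k') ⊗ₜ[k] aeval a p := by
  induction p using MvPolynomial.induction_on with
  | C c =>
    rw [map_C, aeval_C, algHom_C, Algebra.TensorProduct.algebraMap_apply, Algebra.algebraMap_self_apply,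
      Algebra.algebraMap_eq_smul_one (A := k'), Algebra.algebraMap_eq_smul_one (A := K),
      TensorProduct.smul_tmul]
  | add p q hp hq => simp only [map_add, hp, hq, TensorProduct.tmul_add]
  | mul_X p i hp =>
    simp only [map_mul, map_X, hp, aeval_X, Algebra.TensorProduct.tmul_mul_tmul, mul_one]

/-- Base change of the relation ideal. -/
theorem ker_baseChange {k : Type u} {K : Type v} [Field k] [Field K] [Algebra k K] (a : Fin 2 → K)
    (f : MvPolynomial (Fin 2) k) (hker : RingHom.ker (aeval a : MvPolynomial (Fin 2) k →ₐ[k] K) = Ideal.span {f})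
    (k' : Type u) [Field k'] [Algebra k k'] :
    RingHom.ker (aeval (fun i => (1 : k') ⊗ₜ[k] a i) : MvPolynomial (Fin 2) k' →ₐ[k'] k' ⊗[k] K) =
      Ideal.span {MvPolynomial.map (algebraMap k k') f} := by
  classical
  let φ : MvPolynomial (Fin 2) k' →ₐ[k'] k' ⊗[k] K := aeval fun i => (1 : k') ⊗ₜ[k] a i
  have hmap : ∀ p : MvPolynomial (Fin 2) k, φ (MvPolynomial.map (algebraMap k k') p) = (1 : k') ⊗ₜ[k] aeval a p :=
    aeval_baseChange a k'
  refine le_antisymm ?_ ?_
  swap
  · rw [Ideal.span_singleton_le_iff_mem, RingHom.mem_ker]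
    show φ _ = 0
    rw [hmap, show aeval a f = 0 from RingHom.mem_ker.1 (hker ▸ Ideal.mem_span_singleton_self f),
      TensorProduct.tmul_zero]
  intro p hp
  let b := Module.Free.chooseBasis k k'
  let S : Finset (Module.Free.ChooseBasisIndex k k') := p.support.biUnion fun m => (b.repr (p.coeff m)).support
  let comp : Module.Free.ChooseBasisIndex k k' → MvPolynomial (Fin 2) k := fun i =>
    ∑ m ∈ p.support, monomial m (b.repr (p.coeff m) i)
  have hsum : p = ∑ i ∈ S, C (b i) * MvPolynomial.map (algebraMap k k') (comp i) := by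
    conv_lhs => rw [p.as_sum]
    simp only [comp, map_sum, map_monomial, Finset.mul_sum, C_mul_monomial]
    rw [Finset.sum_comm]
    refine Finset.sum_congr rfl fun m hm => ?_
    rw [← map_sum]
    congr 1
    conv_lhs => rw [← b.linearCombination_repr (p.coeff m)]
    rw [Finsupp.linearCombination_apply, Finsupp.sum_of_support_subset _
      (Finset.subset_biUnion_of_mem (fun m => (b.repr (p.coeff m)).support) hm) _ (fun i _ => zero_smul k (b i))]
    exact Finset.sum_congr rfl fun i _ => by rw [Algebra.smul_def, mul_comm]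
  have hzero : ∑ i ∈ S, b i ⊗ₜ[k] aeval a (comp i) = 0 := by
    have h : φ p = 0 := hp
    rw [hsum, map_sum] at h
    refine Eq.trans (Finset.sum_congr rfl fun i _ => ?_) h
    rw [map_mul, hmap, show φ (C (b i)) = (b i) ⊗ₜ[k] (1 : K) by
      rw [algHom_C, Algebra.TensorProduct.algebraMap_apply, Algebra.algebraMap_self_apply],
      Algebra.TensorProduct.tmul_mul_tmul, mul_one, one_mul]
  let e := b.tensorProduct (Module.Free.chooseBasis k K)
  have hcomp : ∀ i ∈ S, aeval a (comp i) = 0 := by
    intro i hi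
    refine (Module.Free.chooseBasis k K).repr.map_eq_zero_iff.1 (Finsupp.ext fun j => ?_)
    have h := congrArg (fun t => e.repr t (i, j)) hzero
    simp only [map_sum, Finsupp.coe_finsetSum, Finset.sum_apply, e, Module.Basis.tensorProduct_repr_tmul_apply,
      map_zero, Finsupp.coe_zero, Pi.zero_apply, Module.Basis.repr_self] at h
    rw [Finset.sum_eq_single i (fun i' _ hne => by simp [hne]) (fun h' => absurd hi h')] at h
    simpa using h
  rw [hsum]
  refine Ideal.sum_mem _ fun i hi => Ideal.mul_mem_left _ _ (Ideal.mem_span_singleton.2 ?_)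
  exact map_dvd _ (Ideal.mem_span_singleton.1 (hker ▸ RingHom.mem_ker.2 (hcomp i hi)))

theorem map_ne_zero' {k : Type u} [Field k] (k' : Type u) [Field k'] [Algebra k k'] {f : MvPolynomial (Fin 2) k}
    (hf : f ≠ 0) : MvPolynomial.map (algebraMap k k') f ≠ 0 := fun h =>
  hf (MvPolynomial.map_injective _ (algebraMap k k').injective (h.trans (map_zero _).symm))

/-- The plane equation of a geometric function field is absolutely irreducible. -/
theorem exists_plane_equation {k : Type u} {K : Type v} [Field k] [Field K] [Algebra k K]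
    (hK : IsFunctionField k K) (hg : IsGeometric k K) :
    ∃ (x y : K) (f : MvPolynomial (Fin 2) k),
      IntermediateField.adjoin k ({x, y} : Set K) = ⊤ ∧
      (∀ (k' : Type u) [Field k'] [Algebra k k'], FiniteDimensional k k' →
        Irreducible (MvPolynomial.map (algebraMap k k') f)) ∧
      RingHom.ker (MvPolynomial.aeval ![x, y] : MvPolynomial (Fin 2) k →ₐ[k] K) = Ideal.span {f} := by
  classical
  obtain ⟨x, hx, hsep⟩ := Groth.Agent.FunFld.exists_separating hK hg
  haveI := Groth.Agent.FunFld.finite_adjoin hK hx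
  obtain ⟨y, hy⟩ := Field.exists_primitive_element (IntermediateField.adjoin k ({x} : Set K)) K
  have htop : IntermediateField.adjoin k ({x, y} : Set K) = ⊤ := by
    rw [← IntermediateField.adjoin_simple_adjoin_simple, hy, IntermediateField.restrictScalars_top]
  have hrel : ∃ p : MvPolynomial (Fin 2) k, p ≠ 0 ∧ aeval ![x, y] p = 0 := by
    by_contra h
    have hind : AlgebraicIndependent k ![x, y] :=
      algebraicIndependent_iff.2 fun p hp => by_contra fun hp0 => h ⟨p, hp0, hp⟩
    have htr := hind.transcendental_adjoin (s := {0}) (i := 1) (by simp)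
    rw [Set.image_singleton] at htr
    exact htr (IntermediateField.isAlgebraic_adjoin_iff.1
      (Algebra.IsAlgebraic.isAlgebraic (R := IntermediateField.adjoin k ({x} : Set K)) y))
  obtain ⟨f, hf, hker⟩ := exists_ker_eq_span ![x, y] hx hrel
  refine ⟨x, y, f, htop, fun k' _ _ hfd => ?_, hker⟩
  have hF := hg k' hfd
  haveI : IsDomain (k' ⊗[k] K) := hF.isDomain
  have hk := ker_baseChange ![x, y] f hker k'
  have hprime : (Ideal.span {MvPolynomial.map (algebraMap k k') f}).IsPrime := hk ▸ RingHom.ker_isPrime _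
  exact ((Ideal.span_singleton_prime (map_ne_zero' k' hf.ne_zero)).1 hprime).irreducible

/-- A variable not occurring. -/
theorem degreeOf_eq_zero_of_dvd {k : Type u} [Field k] {i : Fin 2} {f p : MvPolynomial (Fin 2) k}
    (hp : p ≠ 0) (hfp : f ∣ p) (h : p.degreeOf i = 0) : f.degreeOf i = 0 := by
  obtain ⟨g, rfl⟩ := hfp
  obtain ⟨hf, hg⟩ := mul_ne_zero_iff.1 hp
  rw [degreeOf_mul_eq hf hg] at h
  omega

/-- An absolutely irreducible plane equation is geometric. -/
theorem geometric_of_irreducible {k : Type u} {K : Type v} [Field k] [Field K] [Algebra k K] (x y : K)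
    (f : MvPolynomial (Fin 2) k) (htop : IntermediateField.adjoin k ({x, y} : Set K) = ⊤)
    (hirr : ∀ (k' : Type u) [Field k'] [Algebra k k'], FiniteDimensional k k' →
      Irreducible (MvPolynomial.map (algebraMap k k') f))
    (hker : RingHom.ker (MvPolynomial.aeval ![x, y] : MvPolynomial (Fin 2) k →ₐ[k] K) = Ideal.span {f}) :
    IsGeometric k K := by
  classical
  intro k' _ _ hfd
  let φ : MvPolynomial (Fin 2) k' →ₐ[k'] k' ⊗[k] K := aeval fun i => (1 : k') ⊗ₜ[k] (![x, y] i)
  have hφ : ∀ p : MvPolynomial (Fin 2) k, φ (MvPolynomial.map (algebraMap k k') p) = (1 : k') ⊗ₜ[k] aeval ![x, y] p :=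
    aeval_baseChange ![x, y] k'
  have hkp : (RingHom.ker φ).IsPrime := by
    rw [show RingHom.ker φ = Ideal.span {MvPolynomial.map (algebraMap k k') f} from ker_baseChange ![x, y] f hker k',
      Ideal.span_singleton_prime (hirr k' hfd).ne_zero]
    exact (hirr k' hfd).prime
  have hrange : Algebra.adjoin k ({x, y} : Set K) = (aeval ![x, y] : MvPolynomial (Fin 2) k →ₐ[k] K).range := by
    rw [← Algebra.adjoin_range_eq_range_aeval, Matrix.range_cons, Matrix.range_cons, Matrix.range_empty,
      Set.union_empty, Set.singleton_union]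
  have hden : ∀ r : k' ⊗[k] K, ∃ d : K, d ≠ 0 ∧ d ∈ Algebra.adjoin k ({x, y} : Set K) ∧
      ∃ p, φ p = ((1 : k') ⊗ₜ[k] d) * r := by
    intro r
    induction r with
    | zero => exact ⟨1, one_ne_zero, one_mem _, 0, by simp⟩
    | tmul c a =>
      obtain ⟨u, hu, s, hs, rfl⟩ := IntermediateField.mem_adjoin_iff_div.1
        (show a ∈ IntermediateField.adjoin k ({x, y} : Set K) by rw [htop]; trivial)
      rcases eq_or_ne s 0 with rfl | hs0
      · exact ⟨1, one_ne_zero, one_mem _, 0, by simp⟩
      rw [hrange] at hu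
      obtain ⟨pu, rfl⟩ := (AlgHom.mem_range _).1 hu
      refine ⟨s, hs0, hs, C c * MvPolynomial.map (algebraMap k k') pu, ?_⟩
      rw [map_mul, hφ, show φ (C c) = c ⊗ₜ[k] (1 : K) by
        rw [algHom_C, Algebra.TensorProduct.algebraMap_apply, Algebra.algebraMap_self_apply],
        Algebra.TensorProduct.tmul_mul_tmul, Algebra.TensorProduct.tmul_mul_tmul, mul_one, one_mul, one_mul,
        mul_div_cancel₀ _ hs0]
    | add r₁ r₂ h₁ h₂ =>
      obtain ⟨d₁, h₁0, h₁m, p₁, hp₁⟩ := h₁
      obtain ⟨d₂, h₂0, h₂m, p₂, hp₂⟩ := h₂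
      rw [hrange] at h₁m h₂m
      obtain ⟨e₁, rfl⟩ := (AlgHom.mem_range _).1 h₁m
      obtain ⟨e₂, rfl⟩ := (AlgHom.mem_range _).1 h₂m
      refine ⟨aeval ![x, y] e₁ * aeval ![x, y] e₂, mul_ne_zero h₁0 h₂0, ?_,
        MvPolynomial.map (algebraMap k k') e₂ * p₁ + MvPolynomial.map (algebraMap k k') e₁ * p₂, ?_⟩
      · rw [hrange]; exact ⟨e₁ * e₂, map_mul _ _ _⟩
      · simp only [map_add, map_mul, hφ, hp₁, hp₂]
        rw [show (1 : k') ⊗ₜ[k] (aeval ![x, y] e₁ * aeval ![x, y] e₂) =
          ((1 : k') ⊗ₜ[k] aeval ![x, y] e₁) * ((1 : k') ⊗ₜ[k] aeval ![x, y] e₂) by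
            rw [Algebra.TensorProduct.tmul_mul_tmul, one_mul]]
        ring
  haveI : Nontrivial (k' ⊗[k] K) := by
    refine ⟨⟨0, 1, fun h => ?_⟩⟩
    refine hkp.ne_top ((Ideal.eq_top_iff_one _).2 ?_)
    rw [RingHom.mem_ker, map_one]
    exact h.symm
  have hunit : ∀ d : K, d ≠ 0 → IsUnit ((1 : k') ⊗ₜ[k] d) := fun d hd =>
    (Ne.isUnit hd).map (Algebra.TensorProduct.includeRight : K →ₐ[k] k' ⊗[k] K)
  haveI : NoZeroDivisors (k' ⊗[k] K) := by
    refine ⟨fun {a b} hab => ?_⟩
    obtain ⟨d, hd, -, p, hp⟩ := hden a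
    obtain ⟨e, he, -, q, hq⟩ := hden b
    have h : φ (p * q) = 0 := by
      rw [map_mul, hp, hq, mul_mul_mul_comm, hab, mul_zero]
    rcases hkp.mem_or_mem (RingHom.mem_ker.2 h) with h | h
    · exact Or.inl ((hunit d hd).mul_right_eq_zero.1 (hp.symm.trans (RingHom.mem_ker.1 h)))
    · exact Or.inr ((hunit e he).mul_right_eq_zero.1 (hq.symm.trans (RingHom.mem_ker.1 h)))
  haveI : IsDomain (k' ⊗[k] K) := NoZeroDivisors.to_isDomain _
  haveI : IsDomain (K ⊗[k] k') :=
    (Algebra.TensorProduct.comm k K k').toMulEquiv.isDomain (k' ⊗[k] K)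
  haveI : Module.Finite K (K ⊗[k] k') := inferInstance
  exact MulEquiv.isField (isField_of_isIntegral_of_isField' (R := K) (S := K ⊗[k] k') (Field.toIsField K))
    (Algebra.TensorProduct.comm k k' K).toMulEquiv

/-- In a geometric field extension every algebraic element is a constant. -/
theorem constants_of_geometric {k : Type u} {K : Type v} [Field k] [Field K] [Algebra k K]
    (hg : IsGeometric k K) {c : K} (hc : IsAlgebraic k c) : c ∈ Set.range (algebraMap k K) := by
  by_contra hcr
  have hci : IsIntegral k c := hc.isIntegral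
  haveI : Fact (Irreducible (minpoly k c)) := ⟨minpoly.irreducible hci⟩
  haveI : FiniteDimensional k (AdjoinRoot (minpoly k c)) := (minpoly.monic hci).finite_adjoinRoot
  let ι : AdjoinRoot (minpoly k c) →ₐ[k] K :=
    AdjoinRoot.liftAlgHom (minpoly k c) (Algebra.ofId k K) c (minpoly.aeval k c)
  let μ : AdjoinRoot (minpoly k c) ⊗[k] K →ₐ[k] K :=
    Algebra.TensorProduct.lift ι (AlgHom.id k K) (fun _ _ => Commute.all _ _)
  letI := (hg (AdjoinRoot (minpoly k c)) inferInstance).toField
  have hθc : AdjoinRoot.root (minpoly k c) ⊗ₜ[k] (1 : K) = (1 : AdjoinRoot (minpoly k c)) ⊗ₜ[k] c := by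
    refine μ.toRingHom.injective ?_
    simp [μ, ι]
  have hnot : AdjoinRoot.root (minpoly k c) ∉ Submodule.span k {(1 : AdjoinRoot (minpoly k c))} := by
    intro h
    obtain ⟨a, ha⟩ := Submodule.mem_span_singleton.1 h
    refine hcr ⟨a, ?_⟩
    have := congrArg ι ha
    rw [map_smul, map_one, Algebra.smul_def, mul_one] at this
    simpa [ι] using this
  obtain ⟨l, hl, hlm⟩ := Submodule.exists_dual_map_eq_bot_of_notMem hnot inferInstance
  have hl1 : l 1 = 0 := by
    have : l 1 ∈ Submodule.map l (Submodule.span k {(1 : AdjoinRoot (minpoly k c))}) :=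
      Submodule.mem_map_of_mem (Submodule.mem_span_singleton_self _)
    simpa [hlm] using this
  have := congrArg (fun t => TensorProduct.lid k K (l.rTensor K t)) hθc
  simp [hl1] at this
  exact hl this

/-- An absolutely irreducible plane equation gives a geometric function field. -/
theorem geometric_of_plane {k : Type u} {K : Type v} [Field k] [Field K] [Algebra k K] (x y : K)
    (f : MvPolynomial (Fin 2) k) (htop : IntermediateField.adjoin k ({x, y} : Set K) = ⊤)
    (hirr : ∀ (k' : Type u) [Field k'] [Algebra k k'], FiniteDimensional k k' →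
      Irreducible (MvPolynomial.map (algebraMap k k') f))
    (hker : RingHom.ker (MvPolynomial.aeval ![x, y] : MvPolynomial (Fin 2) k →ₐ[k] K) = Ideal.span {f}) :
    IsFunctionField k K ∧ IsGeometric k K := by
  classical
  have hf : Irreducible f := by
    have h := hirr k inferInstance
    rwa [Algebra.algebraMap_self, MvPolynomial.map_id] at h
  have hmem : ∀ p : MvPolynomial (Fin 2) k, aeval ![x, y] p = 0 → f ∣ p := fun p hp =>
    Ideal.mem_span_singleton.1 (hker ▸ RingHom.mem_ker.2 hp)
  -- one coordinate is transcendental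
  have htr : Transcendental k x ∨ Transcendental k y := by
    by_contra h
    rw [not_or, transcendental_iff, transcendental_iff] at h
    obtain ⟨hx, hy⟩ := h
    push Not at hx hy
    obtain ⟨p, hp, hp0⟩ := hx
    obtain ⟨q, hq, hq0⟩ := hy
    have h1 : f ∣ Polynomial.aeval (X 0 : MvPolynomial (Fin 2) k) p := hmem _ (by
      rw [← Polynomial.aeval_algHom_apply]; simpa using hp)
    have h2 : f ∣ Polynomial.aeval (X 1 : MvPolynomial (Fin 2) k) q := hmem _ (by
      rw [← Polynomial.aeval_algHom_apply]; simpa using hq)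
    have hdeg : ∀ (i j : Fin 2), i ≠ j → ∀ r : Polynomial k,
        (Polynomial.aeval (X j : MvPolynomial (Fin 2) k) r).degreeOf i = 0 := fun i j hij r => by
      refine Nat.le_zero.1 ?_
      rw [Polynomial.aeval_eq_sum_range]
      refine (degreeOf_sum_le i _ _).trans (Finset.sup_le fun n _ => ?_)
      rw [smul_eq_C_mul]
      refine (degreeOf_mul_le i _ _).trans ?_
      rw [degreeOf_C, zero_add]
      refine (degreeOf_pow_le i _ _).trans ?_
      rw [degreeOf_X, if_neg hij, mul_zero]
    have hne : ∀ (j : Fin 2) (r : Polynomial k), r ≠ 0 → Polynomial.aeval (X j : MvPolynomial (Fin 2) k) r ≠ 0 :=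
      fun j r hr h => hr (transcendental_iff.1 (transcendental_X k j) r h)
    have e0 := degreeOf_eq_zero_of_dvd (hne 1 q hq0) h2 (hdeg 0 1 (by decide) q)
    have e1 := degreeOf_eq_zero_of_dvd (hne 0 p hp0) h1 (hdeg 1 0 (by decide) p)
    have hC : f = C (f.coeff 0) := by
      refine (totalDegree_eq_zero_iff_eq_C.1 ((totalDegree_eq_zero_iff _ f).2 fun m hm i => ?_))
      have hi : f.degreeOf i = 0 := by
        fin_cases i
        · exact e0
        · exact e1
      exact Nat.le_zero.1 (hi ▸ monomial_le_degreeOf i hm)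
    by_cases hc : f.coeff 0 = 0
    · exact hf.ne_zero (by rw [hC, hc, map_zero])
    · exact hf.not_isUnit (hC ▸ (IsUnit.map C (Ne.isUnit hc)))
  have h0 : aeval ![x, y] f = 0 := RingHom.mem_ker.1 (hker ▸ Ideal.mem_span_singleton_self f)
  have hdep : ¬ AlgebraicIndependent k ![x, y] := fun hi => hf.ne_zero (algebraicIndependent_iff.1 hi f h0)
  have halg : ∀ z w : K, Transcendental k z → (AlgebraicIndependent k ![z, w] → AlgebraicIndependent k ![x, y]) →
      ({z, w} : Set K) = {x, y} → FiniteDimensional (IntermediateField.adjoin k ({z} : Set K)) K := by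
    intro z w hz hi hset
    have hw : IsAlgebraic (IntermediateField.adjoin k ({z} : Set K)) w := by
      by_contra hw
      refine hdep (hi ((AlgebraicIndependent.iff_transcendental_adjoin_image (1 : Fin 2)).2 ⟨?_, ?_⟩))
      · haveI : Unique {j : Fin 2 // j ≠ 1} := ⟨⟨⟨0, by decide⟩⟩, fun j => by
          obtain ⟨j, hj⟩ := j
          fin_cases j
          · rfl
          · exact absurd rfl hj⟩
        exact (algebraicIndependent_singleton_iff (⟨0, by decide⟩ : {j : Fin 2 // j ≠ 1})).2 (by simpa using hz)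
      · have e : (![z, w] : Fin 2 → K) '' {(1 : Fin 2)}ᶜ = {z} := by
          ext t
          simp [Fin.exists_fin_two, eq_comm]
        rw [e]
        exact fun h => hw (IntermediateField.isAlgebraic_adjoin_iff.2 h)
    haveI : FiniteDimensional (IntermediateField.adjoin k ({z} : Set K))
        (IntermediateField.adjoin (IntermediateField.adjoin k ({z} : Set K)) ({w} : Set K)) :=
      IntermediateField.adjoin.finiteDimensional hw.isIntegral
    have htop' : IntermediateField.adjoin (IntermediateField.adjoin k ({z} : Set K)) ({w} : Set K) = ⊤ :=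
      IntermediateField.restrictScalars_injective k (by
        rw [IntermediateField.adjoin_simple_adjoin_simple, hset, htop, IntermediateField.restrictScalars_top])
    exact LinearEquiv.finiteDimensional
      (((IntermediateField.equivOfEq htop').trans IntermediateField.topEquiv).toLinearEquiv)
  have hgeom : IsGeometric k K := geometric_of_irreducible x y f htop hirr hker
  refine ⟨⟨?_, fun c hc => constants_of_geometric hgeom hc⟩, hgeom⟩
  rcases htr with ht | ht
  · exact ⟨x, ht, halg x y ht id rfl⟩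
  · refine ⟨y, ht, halg y x ht (fun h => ?_) (Set.pair_comm _ _)⟩
    exact (algebraicIndependent_equiv' (Equiv.swap 0 1) (by
      funext i
      fin_cases i <;> simp)).1 h

end Groth.Agent.FunFldMisc
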